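import Cfsg.Prelude.Def_OddOrderChar
import Cfsg.Agent.OddLocal.Sigma.RGroup
import Cfsg.Agent.OddLocal.Sigma.TypeTwoTI
import Cfsg.Agent.OddLocal.Sigma.PLengthProper
import Cfsg.Agent.S1362
import Cfsg.Agent.S1436

/-! The Dade hypothesis for invariant subsets of `sigmaHat M` with TI part outside `M_σ`. -/

set_option autoImplicit false
set_option linter.style.haveILetI false

namespace Cfsg.Agent.OddChar.Support

open Cfsg
open Cfsg.Agent.OddLocal

variable {G : Type*} [Group G] [Finite G] (hG : IsMinSimpleOddOrder G)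
include hG

theorem plen : ∀ (p : ℕ) [Fact p.Prime] (H : Subgroup G), H ≠ ⊤ → PLengthLE p 1 H :=
  fun r _ H hH => Sigma.pLengthLE_proper hG r H hH

/-- An element of `M` whose order is that of an element of `M_σ` is in `M_σ`. -/
theorem mem_sigmaCore_of_conj {M : Subgroup G} (hM : IsCoatom M) {a g : G} (ha : a ∈ sigmaCore M)
    (hg : g * a * g⁻¹ ∈ M) : g * a * g⁻¹ ∈ sigmaCore M :=
  Sigma.le_sigmaCore hG hM (Subgroup.zpowers_le.mpr hg) (fun q hq hd => Sigma.mem_sigma_of_dvd hq (by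
    rw [Nat.card_zpowers, Sigma.orderOf_conj_eq] at hd
    exact hd.trans (Subgroup.orderOf_dvd_natCard _ ha))) (Subgroup.mem_zpowers _)

theorem conj_sigmaHat {M : Subgroup G} {m v : G} (hm : m ∈ M) (hv : v ∈ sigmaHat M) : m * v * m⁻¹ ∈ sigmaHat M := by
  obtain ⟨hvM, y, hy, hy1, hvy⟩ := hv
  exact ⟨M.mul_mem (M.mul_mem hm hvM) (M.inv_mem hm), m * y * m⁻¹,
    (Subgroup.mem_normalizer_iff.mp (Sigma.le_normalizer_sigmaCore M hm) y).mp hy,
    fun e => hy1 (conj_eq_one_iff.mp e), ((show Commute v y from hvy).map (MulAut.conj m)).eq⟩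

/-- With `κ(M) = ∅` the elements of `sigmaHat M` outside `M_σ` are only moved by `M` to each other. -/
theorem moved_of_kappa_empty {M : Subgroup G} (hM : IsCoatom M) (hκ : kappa M = ∅) {a g : G}
    (ha : a ∈ sigmaHat M) (haσ : a ∉ sigmaCore M) (hga : g * a * g⁻¹ ∈ sigmaHat M) : g ∈ M := by
  obtain ⟨⟨K, hK⟩, hcyc⟩ := Sigma.kappa_hall hG (plen hG) hM
  obtain ⟨U, hd⟩ := Sigma.exists_decomp hG (plen hG) hM (hcyc K hK) hK
  have hK1 : K = ⊥ := by
    by_contra hK1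
    obtain ⟨p, hp, hpd⟩ := Nat.exists_prime_and_dvd fun e => hK1 (Subgroup.eq_bot_of_card_eq _ e)
    have := hK.2.1 p hp hpd
    rw [hκ] at this
    exact this
  have hU : ∀ v ∈ M, v ∈ U ⊔ sigmaCore M := fun v hv => by
    obtain ⟨u, hu, w, hw, rfl⟩ := hd.compl.2.2.2 v hv
    rw [hK1, bot_sup_eq] at hw
    exact mul_mem (Subgroup.mem_sup_left hu) (Subgroup.mem_sup_right hw)
  have hset : ∀ v ∈ sigmaHat M, v ∉ sigmaCore M → v ∈ sigmaA M U \ (sigmaCore M : Set G) :=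
    fun v hv hn => ⟨⟨hv, hU v hv.1⟩, hn⟩
  have hgaσ : g * a * g⁻¹ ∉ sigmaCore M := fun h => haσ (by
    have := mem_sigmaCore_of_conj hG hM (g := g⁻¹) h (by
      rw [show g⁻¹ * (g * a * g⁻¹) * g⁻¹⁻¹ = a by group]; exact ha.1)
    rwa [show g⁻¹ * (g * a * g⁻¹) * g⁻¹⁻¹ = a by group] at this)
  have ha1 : a ≠ 1 := fun e => haσ (e ▸ one_mem _)
  have hN := Sigma.normalizer_eq_of_invariant hG hM (X := sigmaA M U \ (sigmaCore M : Set G))
    (fun v hv => hv.1.1.1) (hset a ha haσ) ha1 (fun m hm v hv => by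
      refine hset _ (conj_sigmaHat hG hm hv.1.1) fun h => hv.2 ?_
      have := mem_sigmaCore_of_conj hG hM (g := m⁻¹) h (by
        rw [show m⁻¹ * (m * v * m⁻¹) * m⁻¹⁻¹ = v by group]; exact hv.1.1.1)
      rwa [show m⁻¹ * (m * v * m⁻¹) * m⁻¹⁻¹ = v by group] at this)
  refine hN.le ?_
  by_contra hn
  exact ha1 ((Cfsg.Agent.S1362.result hG M hM K U hd) g hn a (hset a ha haσ) (hset _ hga hgaσ))

/-- The order of `N_σ`, for the supporting subgroup `N`, is prime to `|C_M(b)|`, `b ∈ sigmaHat M`. -/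
theorem coprime_support {M N : Subgroup G} {x b : G} (hM : IsCoatom M) (h : Sigma.IsSupport M N x)
    (hx : x ∈ sigmaCore M) (hx1 : x ≠ 1) (hb : kappa M = ∅ → b ∈ sigmaHat M ∧ b ≠ 1) :
    (Nat.card (sigmaCore N)).Coprime (Nat.card ↥(M ⊓ Subgroup.centralizer ({b} : Set G))) := by
  refine Nat.coprime_of_dvd fun q hq h1 h2 => ?_
  haveI := Fact.mk hq
  have hqN := Sigma.mem_sigma_of_dvd hq h1
  obtain ⟨hκ, hτ⟩ := (Cfsg.Agent.S1436.result hG M hM x hx hx1 h.notLe N h.coatom h.le).1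
    ⟨q, hqN, h2.trans (Subgroup.card_dvd_of_le inf_le_left)⟩
  have hqM : q ∉ sigma M := fun hσ => Sigma.sigma_disjoint hG (plen hG) hM h.coatom h.nc hσ hqN
  have hno : ∀ v ∈ M, ∀ y ∈ sigmaCore M, y ≠ 1 → v * y = y * v → ∀ r : ℕ, r.Prime → r ∣ orderOf v → r ∈ sigma M := by
    intro v hv y hy hy1 hc r hr hd
    by_contra hn
    rcases Sigma.fixed_elt_classes hG (plen hG) hM hv hy hy1 hc hr hd hn with h' | h'
    · rw [hκ] at h'; exact h'
    · rw [hτ] at h'; exact h'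
  obtain ⟨⟨hbM, y, hy, hy1, hby⟩, hb1⟩ := hb hκ
  have hbσ : b ∈ sigmaCore M := Sigma.le_sigmaCore hG hM (Subgroup.zpowers_le.mpr hbM)
    (fun r hr hd => hno b hbM y hy hy1 hby r hr (by rwa [Nat.card_zpowers] at hd)) (Subgroup.mem_zpowers _)
  obtain ⟨u, hu⟩ := exists_prime_orderOf_dvd_card' (G := ↥(M ⊓ Subgroup.centralizer ({b} : Set G))) q h2
  refine hqM (hno (u : G) u.2.1 b hbσ hb1 (Subgroup.mem_centralizer_singleton_iff.mp u.2.2) q hq ?_)
  rw [Subgroup.orderOf_coe, hu]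

/-- The general criterion. -/
theorem dade_of {M : Subgroup G} (hM : IsCoatom M) {A : Set G} (hAM : A ⊆ M) (h1 : (1 : G) ∉ A)
    (hne : A.Nonempty) (hinv : ∀ m ∈ M, ∀ v ∈ A, m * v * m⁻¹ ∈ A)
    (hhat : kappa M = ∅ → A ⊆ sigmaHat M)
    (hmov : ∀ a ∈ A, a ∉ sigmaCore M → ∀ g : G, g * a * g⁻¹ ∈ A → g ∈ M) :
    Subgroup.normalizer A = M ∧ DadeHypothesis A M (supportR M) := by
  obtain ⟨a₀, ha₀⟩ := hne
  have hcm : ∀ a ∈ A, a ∉ sigmaCore M → Subgroup.centralizer ({a} : Set G) ≤ M := fun a ha hn c hc =>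
    hmov a ha hn c (by
      rw [Subgroup.mem_centralizer_singleton_iff.mp hc, mul_inv_cancel_right]
      exact ha)
  have hbot : ∀ a ∈ A, a ∉ sigmaCore M → supportR M a = ⊥ := fun a ha hn =>
    Sigma.supportR_eq_bot (hcm a ha hn)
  have hfacts : ∀ a ∈ A, a ∈ sigmaCore M → _ := fun a ha hσ =>
    Sigma.supportR_facts hG (plen hG) hM hσ (fun e => h1 (e ▸ ha))
  refine ⟨Sigma.normalizer_eq_of_invariant hG hM hAM ha₀ (fun e => h1 (e ▸ ha₀)) hinv, ?_⟩
  refine ⟨h1, hAM, hinv, fun a ha g hg => ?_, fun a ha => ?_, fun a ha c hc u hu => ?_, fun a ha => ?_,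
    fun a ha => ?_, fun a ha b hb => ?_⟩
  · by_cases hσ : a ∈ sigmaCore M
    · obtain ⟨-, hc, -, htr, -, -⟩ := hfacts a ha hσ
      obtain ⟨r, hr, e⟩ := htr g⁻¹ (Sigma.mem_cj.mpr (by rw [inv_inv]; exact hAM hg))
      have hra : r * a = a * r := Subgroup.mem_centralizer_singleton_iff.mp (hc.2.1 hr)
      have hgr : g * r ∈ M := Sigma.mem_of_cj_eq hG hM (by
        rw [Sigma.cj_mul, e, ← Sigma.cj_mul, mul_inv_cancel, Sigma.cj_one])
      exact ⟨g * r, hgr, by rw [mul_inv_rev, mul_assoc g r a, hra]; group⟩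
    · exact ⟨g, hmov a ha hσ g hg, rfl⟩
  · by_cases hσ : a ∈ sigmaCore M
    · exact (hfacts a ha hσ).2.1.2.1
    · rw [hbot a ha hσ]; exact bot_le
  · by_cases hσ : a ∈ sigmaCore M
    · exact (Subgroup.mem_normalizer_iff.mp ((hfacts a ha hσ).1 hc) u).mp hu
    · rw [hbot a ha hσ, Subgroup.mem_bot] at hu ⊢
      rw [hu, mul_one, mul_inv_cancel]
  · by_cases hσ : a ∈ sigmaCore M
    · rw [inf_comm]; exact (hfacts a ha hσ).2.1.2.2.1
    · rw [hbot a ha hσ, bot_inf_eq]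
  · by_cases hσ : a ∈ sigmaCore M
    · obtain ⟨hA, hB, -, hgen⟩ := (hfacts a ha hσ).2.1
      refine le_antisymm (sup_le hB hA) fun c hc => ?_
      obtain ⟨x, hx, y, hy, rfl⟩ := hgen c hc
      exact mul_mem (Subgroup.mem_sup_right hx) (Subgroup.mem_sup_left hy)
    · rw [hbot a ha hσ, bot_sup_eq]
      exact inf_eq_right.mpr (hcm a ha hσ)
  · by_cases hC : Subgroup.centralizer ({a} : Set G) ≤ M
    · rw [Sigma.supportR_eq_bot hC, Subgroup.card_bot]
      exact Nat.coprime_one_left _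
    have hσ : a ∈ sigmaCore M := by
      by_contra hn
      exact hC (hcm a ha hn)
    have ha1 : a ≠ 1 := fun e => h1 (e ▸ ha)
    obtain ⟨N, h⟩ := Sigma.exists_support hG (plen hG) hM hσ ha1 hC
    rw [h.supportR_eq hG (plen hG)]
    exact Nat.Coprime.coprime_dvd_left (Subgroup.card_dvd_of_le inf_le_left)
      (coprime_support hG hM h hσ ha1 fun hκ => ⟨hhat hκ hb, fun e => h1 (e ▸ hb)⟩)

end Cfsg.Agent.OddChar.Support
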